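import Mathlib

/-!
# Maps of finite projective modules bijective in codimension one are bijective
-/

set_option autoImplicit false
set_option linter.style.haveILetI false

namespace Groth.Agent.CodimOne

open scoped TensorProduct

universe u v w

variable {R : Type u} [CommRing R] {M : Type v} [AddCommGroup M] [Module R M] {N : Type w}
  [AddCommGroup N] [Module R N]

/-- Base change in two steps. -/
theorem nested_surjective_iff (A B : Type*) [CommRing A] [Algebra R A] [CommRing B] [Algebra R B]
    [Algebra A B] [IsScalarTower R A B] (φ : M →ₗ[R] N) :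
    Function.Surjective ((φ.baseChange A).baseChange B) ↔ Function.Surjective (φ.baseChange B) := by
  let eM := TensorProduct.AlgebraTensorModule.cancelBaseChange R A B B M
  let eN := TensorProduct.AlgebraTensorModule.cancelBaseChange R A B B N
  have h : eN.toLinearMap ∘ₗ (φ.baseChange A).baseChange B = φ.baseChange B ∘ₗ eM.toLinearMap := by
    ext; simp [eM, eN]
  have h' : ∀ x, eN ((φ.baseChange A).baseChange B x) = φ.baseChange B (eM x) :=
    fun x => LinearMap.congr_fun h x
  constructor
  · intro hs y
    obtain ⟨x, hx⟩ := hs (eN.symm y)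
    exact ⟨eM x, by rw [← h', hx, LinearEquiv.apply_symm_apply]⟩
  · intro hs y
    obtain ⟨x, hx⟩ := hs (eN y)
    exact ⟨eM.symm x, eN.injective (by rw [h', LinearEquiv.apply_symm_apply, hx])⟩

theorem surjective_of_tower (A B : Type*) [CommRing A] [Algebra R A] [CommRing B] [Algebra R B]
    [Algebra A B] [IsScalarTower R A B] (φ : M →ₗ[R] N)
    (h : Function.Surjective (φ.baseChange A)) : Function.Surjective (φ.baseChange B) :=
  (nested_surjective_iff A B φ).mp (LinearMap.lTensor_surjective B h)

variable [Module.Finite R M] [Module.Projective R M] [Module.Finite R N] [Module.Projective R N]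

/-- Over a localisation of a Noetherian ring the determinant can only vanish in height one. -/
theorem bijective_baseChange_atPrime [IsNoetherianRing R] (φ : M →ₗ[R] N)
    (h : ∀ (p : Ideal R) [p.IsPrime], p.height ≤ 1 →
      Function.Bijective (φ.baseChange p.ResidueField))
    (m : Ideal R) [m.IsPrime] : Function.Bijective (φ.baseChange (Localization.AtPrime m)) := by
  classical
  let R' := Localization.AtPrime m
  haveI : IsNoetherianRing R' := IsLocalization.isNoetherianRing m.primeCompl R' inferInstance
  haveI : Module.Free R' (R' ⊗[R] M) := Module.free_of_flat_of_isLocalRing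
  haveI : Module.Free R' (R' ⊗[R] N) := Module.free_of_flat_of_isLocalRing
  haveI : Module.FinitePresentation R M := Module.finitePresentation_of_finite R M
  haveI : Module.FinitePresentation R N := Module.finitePresentation_of_finite R N
  have hrank : Module.finrank R' (R' ⊗[R] M) = Module.finrank R' (R' ⊗[R] N) := by
    obtain ⟨q, hq, hqm⟩ := Ideal.exists_minimalPrimes_le (bot_le (a := m))
    haveI := hq.1.1
    have hh : q.height ≤ 1 := by
      rw [Ideal.height_eq_zero_iff.mpr hq]
      exact zero_le_one
    have hspec : (⟨q, hq.1.1⟩ : PrimeSpectrum R) ⤳ (⟨m, inferInstance⟩ : PrimeSpectrum R) :=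
      (PrimeSpectrum.le_iff_specializes _ _).mp hqm
    have hM := (hspec.map (Module.isLocallyConstant_rankAtStalk (R := R) (M := M)).continuous).eq
    have hN := (hspec.map (Module.isLocallyConstant_rankAtStalk (R := R) (M := N)).continuous).eq
    rw [← Module.rankAtStalk_eq_finrank_tensorProduct ⟨m, inferInstance⟩,
      ← Module.rankAtStalk_eq_finrank_tensorProduct ⟨m, inferInstance⟩, ← hM, ← hN,
      Module.rankAtStalk_eq_finrank_tensorProduct, Module.rankAtStalk_eq_finrank_tensorProduct]
    let S := Localization.AtPrime q
    haveI : Module.Free S (S ⊗[R] M) := Module.free_of_flat_of_isLocalRing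
    haveI : Module.Free S (S ⊗[R] N) := Module.free_of_flat_of_isLocalRing
    calc Module.finrank S (S ⊗[R] M)
        = Module.finrank q.ResidueField (q.ResidueField ⊗[S] (S ⊗[R] M)) :=
          (Module.finrank_baseChange (R := q.ResidueField) (S := S) (M' := S ⊗[R] M)).symm
      _ = Module.finrank q.ResidueField (q.ResidueField ⊗[R] M) :=
          (TensorProduct.AlgebraTensorModule.cancelBaseChange R S q.ResidueField q.ResidueField M).finrank_eq
      _ = Module.finrank q.ResidueField (q.ResidueField ⊗[R] N) :=
          (LinearEquiv.ofBijective _ (h q hh)).finrank_eq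
      _ = Module.finrank q.ResidueField (q.ResidueField ⊗[S] (S ⊗[R] N)) :=
          (TensorProduct.AlgebraTensorModule.cancelBaseChange R S q.ResidueField q.ResidueField N).finrank_eq.symm
      _ = Module.finrank S (S ⊗[R] N) := Module.finrank_baseChange
  let b₁ := Module.finBasis R' (R' ⊗[R] M)
  let b₂ := Module.finBasisOfFinrankEq R' (R' ⊗[R] N) hrank.symm
  let f := φ.baseChange R'
  have hunit : IsUnit (LinearMap.toMatrix b₁ b₂ f).det := by
    by_contra hd
    obtain ⟨Q, hQ, -⟩ := Ideal.exists_minimalPrimes_le
      (J := IsLocalRing.maximalIdeal R') (I := Ideal.span {(LinearMap.toMatrix b₁ b₂ f).det})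
      (by rw [Ideal.span_le, Set.singleton_subset_iff]; exact hd)
    haveI := hQ.1.1
    let p := Q.under R
    haveI : p.IsPrime := Ideal.IsPrime.under R Q
    have hp : p.height ≤ 1 := by
      rw [IsLocalization.height_under m.primeCompl Q]
      exact Ideal.height_le_one_of_isPrincipal_of_mem_minimalPrimes _ Q hQ
    letI : Algebra p.ResidueField Q.ResidueField :=
      (Ideal.ResidueField.map p Q (algebraMap R R') rfl).toAlgebra
    haveI : IsScalarTower R p.ResidueField Q.ResidueField :=
      IsScalarTower.of_algebraMap_eq fun r => by
        rw [RingHom.algebraMap_toAlgebra, IsScalarTower.algebraMap_apply R R' Q.ResidueField]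
        exact (Ideal.ResidueField.map_algebraMap p Q (algebraMap R R') rfl r).symm
    have hsurj : Function.Surjective (f.baseChange Q.ResidueField) :=
      (nested_surjective_iff R' Q.ResidueField φ).mpr
        (surjective_of_tower p.ResidueField Q.ResidueField φ (h p hp).2)
    have hmat : IsUnit (LinearMap.toMatrix (Algebra.TensorProduct.basis Q.ResidueField b₁)
        (Algebra.TensorProduct.basis Q.ResidueField b₂) (f.baseChange Q.ResidueField)) := by
      rw [← Matrix.mulVec_surjective_iff_isUnit]
      intro y
      obtain ⟨x, hx⟩ := hsurj ((Algebra.TensorProduct.basis Q.ResidueField b₂).equivFun.symm y)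
      refine ⟨(Algebra.TensorProduct.basis Q.ResidueField b₁).repr x, ?_⟩
      rw [LinearMap.toMatrix_mulVec_repr, hx]
      exact (Algebra.TensorProduct.basis Q.ResidueField b₂).equivFun.apply_symm_apply y
    rw [LinearMap.toMatrix_baseChange, Matrix.isUnit_iff_isUnit_det, ← RingHom.mapMatrix_apply,
      ← RingHom.map_det] at hmat
    refine hmat.ne_zero ?_
    rw [Ideal.algebraMap_residueField_eq_zero]
    exact hQ.1.2 (Ideal.subset_span rfl)
  exact (LinearEquiv.ofIsUnitDet hunit).bijective

/-- Bijective over residue fields in height at most one implies bijective. -/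
theorem bijective_of_height_le_one [IsNoetherianRing R] (φ : M →ₗ[R] N)
    (h : ∀ (p : Ideal R) [p.IsPrime], p.height ≤ 1 →
      Function.Bijective (φ.baseChange p.ResidueField)) : Function.Bijective φ := by
  let fM : ∀ (P : Ideal R) [P.IsMaximal], M →ₗ[R] Localization.AtPrime P ⊗[R] M :=
    fun P _ => TensorProduct.mk R _ M 1
  let fN : ∀ (P : Ideal R) [P.IsMaximal], N →ₗ[R] Localization.AtPrime P ⊗[R] N :=
    fun P _ => TensorProduct.mk R _ N 1
  haveI : ∀ (P : Ideal R) [P.IsMaximal], IsLocalizedModule.AtPrime P (fM P) := fun P _ =>
    (isLocalizedModule_iff_isBaseChange P.primeCompl (Localization.AtPrime P) _).mpr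
      (TensorProduct.isBaseChange R M (Localization.AtPrime P))
  haveI : ∀ (P : Ideal R) [P.IsMaximal], IsLocalizedModule.AtPrime P (fN P) := fun P _ =>
    (isLocalizedModule_iff_isBaseChange P.primeCompl (Localization.AtPrime P) _).mpr
      (TensorProduct.isBaseChange R N (Localization.AtPrime P))
  refine bijective_of_isLocalized_maximal _ fM _ fN φ fun P _ => ?_
  have : (IsLocalizedModule.map P.primeCompl (fM P) (fN P) φ) =
      (φ.baseChange (Localization.AtPrime P)).restrictScalars R := by
    refine IsLocalizedModule.linearMap_ext P.primeCompl (fM P) (fN P) (LinearMap.ext fun x => ?_)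
    rw [LinearMap.comp_apply, LinearMap.comp_apply, IsLocalizedModule.map_apply]
    simp [fM, fN]
  rw [this]
  exact bijective_baseChange_atPrime φ h P

end Groth.Agent.CodimOne
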