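import Groth.Agent.CodimOne.Algebra

/-!
# Morphisms of finite flat schemes which are isomorphisms in codimension one
-/

set_option autoImplicit false
set_option linter.style.haveILetI false

universe u

open CategoryTheory CategoryTheory.Limits AlgebraicGeometry

namespace Groth.Agent.CodimOne

variable {S : Scheme.{u}} {X Y : Over S}

/-- The base change of `f` to every field-valued point of codimension at most one is an iso. -/
def IsoInCodimOne (f : X ⟶ Y) : Prop :=
  ∀ (K : Type u) [Field K] (j : Spec (CommRingCat.of K) ⟶ S),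
    ringKrullDim (S.presheaf.stalk (j.base (IsLocalRing.closedPoint K))) ≤ 1 →
    IsIso ((Over.pullback j).map f)

theorem isIso_pullback_map_comp {T T' : Scheme.{u}} (a : T' ⟶ T) (j : T ⟶ S) (f : X ⟶ Y)
    (h : IsIso ((Over.pullback j).map f)) : IsIso ((Over.pullback (a ≫ j)).map f) :=
  (NatIso.isIso_map_iff (Over.pullbackComp a j) f).mpr
    (inferInstanceAs (IsIso ((Over.pullback a).map ((Over.pullback j).map f))))

/-- It suffices to check residue fields of points of codimension at most one. -/
theorem isoInCodimOne_of_residueField (f : X ⟶ Y)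
    (h : ∀ s : S, ringKrullDim (S.presheaf.stalk s) ≤ 1 →
      IsIso ((Over.pullback (S.fromSpecResidueField s)).map f)) : IsoInCodimOne f := by
  intro K _ j hj
  rw [← Scheme.descResidueField_stalkClosedPointTo_fromSpecResidueField K S j]
  exact isIso_pullback_map_comp _ _ f (h _ hj)

/-- The affine case. -/
theorem isIso_of_affine {R B C : CommRingCat.{u}} [IsNoetherianRing R] (φB : R ⟶ B) (φC : R ⟶ C)
    (hB : IsFinite (Spec.map φB)) (hC : IsFinite (Spec.map φC))
    (hB' : Flat (Spec.map φB)) (hC' : Flat (Spec.map φC))
    (u : B ⟶ C) (w : Spec.map u ≫ Spec.map φB = Spec.map φC)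
    (h : IsoInCodimOne (Over.homMk (Spec.map u) w :
      Over.mk (Spec.map φC) ⟶ Over.mk (Spec.map φB))) : IsIso u := by
  algebraize [φB.hom, φC.hom]
  haveI : Module.Finite R B := (IsFinite.SpecMap_iff φB).mp hB
  haveI : Module.Finite R C := (IsFinite.SpecMap_iff φC).mp hC
  haveI : Module.Flat R B := (Flat.SpecMap_iff).mp hB'
  haveI : Module.Flat R C := (Flat.SpecMap_iff).mp hC'
  haveI : Module.FinitePresentation R B := Module.finitePresentation_of_finite R B
  haveI : Module.FinitePresentation R C := Module.finitePresentation_of_finite R C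
  haveI : Module.Projective R B := Module.Flat.projective_of_finitePresentation
  haveI : Module.Projective R C := Module.Flat.projective_of_finitePresentation
  have hu : φB ≫ u = φC := Spec.map_injective (by rw [Spec.map_comp]; exact w)
  have hcomm' : ∀ r : R, u.hom (algebraMap R B r) = algebraMap R C r := fun r => by
    change u.hom (φB.hom r) = φC.hom r
    rw [← hu]
    rfl
  let uA : B →ₐ[R] C := ⟨u.hom, hcomm'⟩
  suffices hbij : Function.Bijective uA.toLinearMap from
    (ConcreteCategory.isIso_iff_bijective u).mpr hbij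
  refine bijective_of_height_le_one _ fun p _ hp => ?_
  let K := p.ResidueField
  let j : Spec (CommRingCat.of K) ⟶ Spec R := Spec.map (CommRingCat.ofHom (algebraMap R K))
  have hpt : j.base (IsLocalRing.closedPoint K) = (⟨p, inferInstance⟩ : PrimeSpectrum R) := by
    apply PrimeSpectrum.ext
    change Ideal.comap (algebraMap R K) (IsLocalRing.maximalIdeal K) = p
    rw [IsLocalRing.maximalIdeal_eq_bot]
    exact Ideal.ker_algebraMap_residueField p
  have hdim : ringKrullDim ((Spec R).presheaf.stalk (j.base (IsLocalRing.closedPoint K))) ≤ 1 := by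
    rw [hpt]
    refine ((RingEquiv.ringKrullDim
      (Spec.stalkIso R (⟨p, inferInstance⟩ : PrimeSpectrum R)).commRingCatIsoToRingEquiv).trans
        (IsLocalization.AtPrime.ringKrullDim_eq_height p (Localization.AtPrime p))).trans_le ?_
    exact_mod_cast hp
  haveI := h K j hdim
  -- identify the base change with the tensor product
  let m : CommRingCat.of (TensorProduct R B K) ⟶ CommRingCat.of (TensorProduct R C K) :=
    CommRingCat.ofHom (Algebra.TensorProduct.map uA (AlgHom.id R K)).toRingHom
  let eB : pullback (Spec.map φB) j ≅ Spec (CommRingCat.of (TensorProduct R B K)) :=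
    pullbackSpecIso R B K
  let eC : pullback (Spec.map φC) j ≅ Spec (CommRingCat.of (TensorProduct R C K)) :=
    pullbackSpecIso R C K
  let g := ((Over.pullback j).map (Over.homMk (Spec.map u) w :
    Over.mk (Spec.map φC) ⟶ Over.mk (Spec.map φB))).left
  haveI : IsIso g := inferInstanceAs (IsIso ((Over.forget _).map ((Over.pullback j).map
    (Over.homMk (Spec.map u) w : Over.mk (Spec.map φC) ⟶ Over.mk (Spec.map φB)))))
  have hg : eC.inv ≫ g ≫ eB.hom = Spec.map m := by
    rw [← cancel_mono eB.inv]
    simp only [Category.assoc, Iso.hom_inv_id, Category.comp_id]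
    refine pullback.hom_ext ?_ ?_
    · rw [Category.assoc, Category.assoc]
      change eC.inv ≫ pullback.lift _ _ _ ≫ pullback.fst _ _ = Spec.map m ≫ (pullbackSpecIso R B K).inv ≫ pullback.fst _ _
      rw [pullback.lift_fst, pullbackSpecIso_inv_fst, ← Spec.map_comp]
      change (pullbackSpecIso R C K).inv ≫ pullback.fst _ _ ≫ Spec.map u = _
      rw [← Category.assoc, pullbackSpecIso_inv_fst, ← Spec.map_comp]
      congr 1
    · rw [Category.assoc, Category.assoc]
      change eC.inv ≫ pullback.lift _ _ _ ≫ pullback.snd _ _ = Spec.map m ≫ (pullbackSpecIso R B K).inv ≫ pullback.snd _ _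
      rw [pullback.lift_snd, pullbackSpecIso_inv_snd, ← Spec.map_comp]
      change (pullbackSpecIso R C K).inv ≫ pullback.snd _ _ = _
      rw [pullbackSpecIso_inv_snd]
      congr 1
      apply CommRingCat.hom_ext
      refine RingHom.ext fun k => ?_
      change (1 : C) ⊗ₜ[R] k = Algebra.TensorProduct.map uA (AlgHom.id R K) ((1 : B) ⊗ₜ[R] k)
      simp
  haveI : IsIso (Spec.map m) := hg ▸ inferInstance
  have hm : Function.Bijective (Algebra.TensorProduct.map uA (AlgHom.id R K)) :=
    isIso_SpecMap_iff.mp ‹IsIso (Spec.map m)›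
  have hcomm : ⇑(uA.toLinearMap.baseChange K) =
      (TensorProduct.comm R C K) ∘ (Algebra.TensorProduct.map uA (AlgHom.id R K)) ∘
        (TensorProduct.comm R K B) := by
    funext x
    induction x using TensorProduct.induction_on with
    | zero => simp
    | tmul a b => simp
    | add x y hx hy => simp only [Function.comp_apply, map_add] at hx hy ⊢; rw [hx, hy]
  rw [hcomm]
  exact (TensorProduct.comm R C K).bijective.comp (hm.comp (TensorProduct.comm R K B).bijective)

/-- **Finite flat schemes over a Noetherian base**: iso in codimension one implies iso. -/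
theorem isIso_of_isoInCodimOne [IsLocallyNoetherian S] (f : X ⟶ Y)
    [IsFinite X.hom] [Flat X.hom] [IsFinite Y.hom] [Flat Y.hom] (h : IsoInCodimOne f) :
    IsIso f.left := by
  let 𝒰 := S.affineCover
  refine IsZariskiLocalAtTarget.of_openCover (P := MorphismProperty.isomorphisms Scheme)
    (𝒰 := 𝒰.pullback₁ Y.hom) fun i => ?_
  let j : 𝒰.X i ⟶ S := 𝒰.f i
  haveI : IsAffine (𝒰.X i) := Scheme.isAffine_affineCover S i
  haveI : IsOpenImmersion j := 𝒰.map_prop i
  haveI : IsLocallyNoetherian (𝒰.X i) := isLocallyNoetherian_of_isOpenImmersion j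
  have hiso : IsIso ((Over.pullback j).map f) := by
    haveI : IsAffine (pullback X.hom j) := isAffine_of_isAffineHom (pullback.snd X.hom j)
    haveI : IsAffine (pullback Y.hom j) := isAffine_of_isAffineHom (pullback.snd Y.hom j)
    haveI : IsNoetherianRing Γ(𝒰.X i, ⊤) :=
      IsLocallyNoetherian.component_noetherian (X := 𝒰.X i) ⟨⊤, isAffineOpen_top _⟩
    let g := (Over.pullback j).map f
    let eS := (𝒰.X i).isoSpec
    let eX := (pullback X.hom j).isoSpec
    let eY := (pullback Y.hom j).isoSpec
    let φX := (pullback.snd X.hom j).appTop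
    let φY := (pullback.snd Y.hom j).appTop
    let gl : pullback X.hom j ⟶ pullback Y.hom j := g.left
    let u := gl.appTop
    have wX : eX.hom ≫ Spec.map φX = pullback.snd X.hom j ≫ eS.hom :=
      Scheme.isoSpec_hom_naturality _
    have wY : eY.hom ≫ Spec.map φY = pullback.snd Y.hom j ≫ eS.hom :=
      Scheme.isoSpec_hom_naturality _
    have wu : eX.hom ≫ Spec.map u = gl ≫ eY.hom := Scheme.isoSpec_hom_naturality _
    have w : Spec.map u ≫ Spec.map φY = Spec.map φX := by
      rw [← Spec.map_comp]
      congr 1
      rw [← Scheme.Hom.comp_appTop]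
      exact congrArg (fun z : pullback X.hom j ⟶ 𝒰.X i => z.appTop) (Over.w g)
    have hfX : IsFinite (Spec.map φX) := by
      rw [(Iso.eq_inv_comp eX).mpr wX]; infer_instance
    have hfY : IsFinite (Spec.map φY) := by
      rw [(Iso.eq_inv_comp eY).mpr wY]; infer_instance
    have hlX : Flat (Spec.map φX) := by
      rw [(Iso.eq_inv_comp eX).mpr wX]; infer_instance
    have hlY : Flat (Spec.map φY) := by
      rw [(Iso.eq_inv_comp eY).mpr wY]; infer_instance
    let f' : Over.mk (Spec.map φX) ⟶ Over.mk (Spec.map φY) := Over.homMk (Spec.map u) w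
    suffices IsIso u by
      haveI : IsIso gl := by
        have : gl = eX.hom ≫ Spec.map u ≫ eY.inv := by
          rw [← Category.assoc, wu, Category.assoc, Iso.hom_inv_id, Category.comp_id]
        rw [this]; infer_instance
      haveI : IsIso ((Over.forget _).map g) := inferInstanceAs (IsIso gl)
      exact isIso_of_reflects_iso g (Over.forget _)
    refine isIso_of_affine φY φX hfY hfX hlY hlX u w fun K _ k hk => ?_
    -- transport along `eS`
    let k' : Spec (CommRingCat.of K) ⟶ 𝒰.X i := k ≫ eS.inv
    have hdim : ringKrullDim (S.presheaf.stalk ((k' ≫ j).base (IsLocalRing.closedPoint K))) ≤ 1 := by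
      refine le_trans (le_of_eq ?_) hk
      refine (RingEquiv.ringKrullDim
        (asIso ((eS.inv ≫ j).stalkMap (k.base (IsLocalRing.closedPoint K)))).commRingCatIsoToRingEquiv).trans ?_
      rfl
    have h1 : IsIso ((Over.pullback k').map g) :=
      (NatIso.isIso_map_iff (Over.pullbackComp k' j) f).mp (h K (k' ≫ j) hdim)
    have h2 : IsIso ((Over.pullback k).map ((Over.pullback eS.inv).map g)) :=
      (NatIso.isIso_map_iff (Over.pullbackComp k eS.inv) g).mp h1
    -- `pullback eS.inv g ≅ f'`
    let aX : (Over.pullback eS.inv).obj ((Over.pullback j).obj X) ≅ Over.mk (Spec.map φX) :=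
      Over.isoMk (asIso (pullback.fst (pullback.snd X.hom j) eS.inv) ≪≫ eX) (by
        change (pullback.fst _ _ ≫ eX.hom) ≫ Spec.map φX = pullback.snd _ _
        rw [Category.assoc, wX, pullback.condition_assoc, Iso.inv_hom_id, Category.comp_id])
    let aY : (Over.pullback eS.inv).obj ((Over.pullback j).obj Y) ≅ Over.mk (Spec.map φY) :=
      Over.isoMk (asIso (pullback.fst (pullback.snd Y.hom j) eS.inv) ≪≫ eY) (by
        change (pullback.fst _ _ ≫ eY.hom) ≫ Spec.map φY = pullback.snd _ _
        rw [Category.assoc, wY, pullback.condition_assoc, Iso.inv_hom_id, Category.comp_id])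
    have hf' : f' = aX.inv ≫ (Over.pullback eS.inv).map g ≫ aY.hom := by
      rw [Iso.eq_inv_comp]
      apply Over.OverMorphism.ext
      change (pullback.fst _ _ ≫ eX.hom) ≫ Spec.map u =
        pullback.lift _ _ _ ≫ pullback.fst _ _ ≫ eY.hom
      rw [pullback.lift_fst_assoc, Category.assoc, wu, Category.assoc]
      rfl
    rw [show (Over.homMk (Spec.map u) w : Over.mk (Spec.map φX) ⟶ Over.mk (Spec.map φY)) = f' from rfl,
      hf', Functor.map_comp, Functor.map_comp]
    infer_instance
  haveI : IsIso ((Over.pullback j).map f).left :=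
    inferInstanceAs (IsIso ((Over.forget _).map ((Over.pullback j).map f)))
  change IsIso (pullback.snd f.left (pullback.fst Y.hom j))
  let e : pullback f.left (pullback.fst Y.hom j) ≅ pullback X.hom j :=
    pullbackRightPullbackFstIso Y.hom j f.left ≪≫ pullback.congrHom (Over.w f) rfl
  have heq : pullback.snd f.left (pullback.fst Y.hom j) = e.hom ≫ ((Over.pullback j).map f).left := by
    refine pullback.hom_ext ?_ ?_
    · change pullback.snd f.left _ ≫ pullback.fst Y.hom j =
        (e.hom ≫ pullback.lift _ _ _) ≫ pullback.fst Y.hom j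
      rw [Category.assoc, pullback.lift_fst, ← pullback.condition]
      simp only [e, Iso.trans_hom, pullback.congrHom_hom, pullback.map, Category.assoc, Category.comp_id]
      erw [pullback.lift_fst_assoc, pullbackRightPullbackFstIso_hom_fst_assoc]
    · change pullback.snd f.left _ ≫ pullback.snd Y.hom j =
        (e.hom ≫ pullback.lift _ _ _) ≫ pullback.snd Y.hom j
      rw [Category.assoc, pullback.lift_snd]
      simp only [e, Iso.trans_hom, pullback.congrHom_hom, pullback.map, Category.assoc, Category.comp_id]
      erw [pullback.lift_snd, pullbackRightPullbackFstIso_hom_snd]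
  rw [heq]
  infer_instance

end Groth.Agent.CodimOne
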